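import Mathlib

set_option autoImplicit false
universe u

namespace Groth.Agent.Lib.Helper5.KatoSplit

/-- `n` is a `P`-number: all its prime factors lie in `P`. -/
def PNum (P : Set ℕ) (n : ℕ) : Prop := ∀ p : ℕ, p.Prime → p ∣ n → p ∈ P
/-- `n` is a `P'`-number: none of its prime factors lies in `P`. -/
def PNum' (P : Set ℕ) (n : ℕ) : Prop := ∀ p : ℕ, p.Prime → p ∣ n → p ∉ P

theorem coprime_of_PNum {P : Set ℕ} {n m : ℕ} (hn : PNum P n) (hm : PNum' P m) :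
    Nat.Coprime n m := by
  rw [Nat.coprime_iff_gcd_eq_one]
  by_contra h
  obtain ⟨p, hp, hpd⟩ := Nat.exists_prime_and_dvd h
  exact hm p hp (hpd.trans (Nat.gcd_dvd_right n m)) (hn p hp (hpd.trans (Nat.gcd_dvd_left n m)))

/-- Bezout in additive groups: if `n • x = 0`, and `n, m` coprime, then `x = m • y` with `y`
a multiple of `x`. -/
theorem exists_zsmul_of_coprime {G : Type*} [AddCommGroup G] {n m : ℕ} (h : Nat.Coprime n m)
    (x : G) (hx : n • x = 0) : ∃ a : ℤ, m • (a • x) = x := by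
  refine ⟨Nat.gcdB n m, ?_⟩
  have h1 : (n : ℤ) * Nat.gcdA n m + (m : ℤ) * Nat.gcdB n m = 1 := by
    have := Nat.gcd_eq_gcd_ab n m
    rw [h] at this
    exact_mod_cast this.symm
  have h2 : x = ((n : ℤ) * Nat.gcdA n m + (m : ℤ) * Nat.gcdB n m) • x := by rw [h1, one_smul]
  conv_rhs => rw [h2]
  rw [add_smul, mul_comm (n : ℤ), mul_smul, mul_smul, natCast_zsmul, natCast_zsmul, hx, smul_zero,
    zero_add]

/-- an element killed by coprime integers vanishes -/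
theorem eq_zero_of_coprime {G : Type*} [AddCommGroup G] {n m : ℕ} (h : Nat.Coprime n m)
    (x : G) (hx : n • x = 0) (hx' : m • x = 0) : x = 0 := by
  obtain ⟨a, ha⟩ := exists_zsmul_of_coprime h x hx
  rw [← ha, smul_comm, hx', smul_zero]

/-- divisibility by primes of `P` gives divisibility by all `P`-numbers -/
theorem divisible_PNum {G : Type*} [AddCommGroup G] (P : Set ℕ) (K : AddSubgroup G)
    (hD : ∀ ℓ ∈ P, ∀ x ∈ K, ∃ y ∈ K, ℓ • y = x) :
    ∀ n : ℕ, 0 < n → PNum P n → ∀ x ∈ K, ∃ y ∈ K, n • y = x := by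
  intro n
  induction n using Nat.strong_induction_on with
  | _ n ih =>
  intro hn hPn x hx
  by_cases h1 : n = 1
  · exact ⟨x, hx, by rw [h1, one_smul]⟩
  · obtain ⟨p, hp, hpn⟩ := Nat.exists_prime_and_dvd h1
    obtain ⟨m, rfl⟩ := hpn
    have hm : 0 < m := Nat.pos_of_ne_zero (by rintro rfl; simp at hn)
    have hmlt : m < p * m := by
      calc m = 1 * m := (one_mul m).symm
        _ < p * m := Nat.mul_lt_mul_of_pos_right hp.one_lt hm
    obtain ⟨y, hy, hyx⟩ := hD p (hPn p hp (dvd_mul_right p m)) x hx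
    obtain ⟨z, hz, hzy⟩ := ih m hmlt hm (fun q hq hqm => hPn q hq (hqm.mul_left p)) y hy
    exact ⟨z, hz, by rw [mul_smul, hzy, hyx]⟩

/-- torsion elements split into a `P`-part and a `P'`-part -/
theorem torsion_split {G : Type*} [AddCommGroup G] (P : Set ℕ) :
    ∀ N : ℕ, 0 < N → ∀ t : G, N • t = 0 →
      ∃ (t₁ t₂ : G) (n₁ n₂ : ℕ), 0 < n₁ ∧ 0 < n₂ ∧ PNum P n₁ ∧ PNum' P n₂ ∧ n₁ • t₁ = 0 ∧
        n₂ • t₂ = 0 ∧ t = t₁ + t₂ := by
  intro N
  induction N using Nat.strong_induction_on with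
  | _ N ih =>
  intro hN t ht
  by_cases h1 : N = 1
  · refine ⟨0, 0, 1, 1, one_pos, one_pos, ?_, ?_, by simp, by simp, ?_⟩
    · intro p hp hp1; exact absurd (Nat.dvd_one.mp hp1) hp.ne_one
    · intro p hp hp1; exact absurd (Nat.dvd_one.mp hp1) hp.ne_one
    · rw [h1, one_smul] at ht; rw [ht, add_zero]
  · obtain ⟨p, hp, hpN⟩ := Nat.exists_prime_and_dvd h1
    obtain ⟨k, m, hpm, hNkm⟩ := Nat.exists_eq_pow_mul_and_not_dvd hN.ne' p hp.ne_one
    have hk : k ≠ 0 := by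
      rintro rfl
      rw [pow_zero, one_mul] at hNkm
      exact hpm (hNkm ▸ hpN)
    have hm : 0 < m := Nat.pos_of_ne_zero (by rintro rfl; simp at hNkm; omega)
    have hcop : Nat.Coprime (p ^ k) m := Nat.Coprime.pow_left k ((Nat.Prime.coprime_iff_not_dvd hp).mpr hpm)
    have hmlt : m < N := by
      rw [hNkm]
      calc m = 1 * m := (one_mul m).symm
        _ < p ^ k * m := Nat.mul_lt_mul_of_pos_right (Nat.one_lt_pow hk hp.one_lt) hm
    -- t = a • (p^k • t) + b • (m • t)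
    have hbez : ((p ^ k : ℕ) : ℤ) * Nat.gcdA (p ^ k) m + (m : ℤ) * Nat.gcdB (p ^ k) m = 1 := by
      have := Nat.gcd_eq_gcd_ab (p ^ k) m
      rw [hcop] at this
      exact_mod_cast this.symm
    set u : G := (Nat.gcdA (p ^ k) m) • ((p ^ k) • t) with hu
    set w : G := (Nat.gcdB (p ^ k) m) • (m • t) with hw
    have htuw : t = u + w := by
      have h2 : t = (((p ^ k : ℕ) : ℤ) * Nat.gcdA (p ^ k) m + (m : ℤ) * Nat.gcdB (p ^ k) m) • t := by
        rw [hbez, one_smul]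
      conv_lhs => rw [h2]
      rw [add_smul, hu, hw, mul_comm ((p ^ k : ℕ) : ℤ), mul_comm (m : ℤ), mul_smul, mul_smul,
        natCast_zsmul, natCast_zsmul]
    have hmu : m • u = 0 := by
      rw [hu, smul_comm, ← mul_smul, mul_comm, ← hNkm, ht, smul_zero]
    have hpw : (p ^ k) • w = 0 := by
      rw [hw, smul_comm, ← mul_smul, ← hNkm, ht, smul_zero]
    obtain ⟨t₁, t₂, n₁, n₂, hn₁, hn₂, hP₁, hP₂, h₁, h₂, hu12⟩ := ih m hmlt hm u hmu
    have hpk : 0 < p ^ k := pos_of_ne_zero (pow_ne_zero k hp.ne_zero)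
    by_cases hpP : p ∈ P
    · refine ⟨t₁ + w, t₂, n₁ * p ^ k, n₂, Nat.mul_pos hn₁ hpk, hn₂, ?_, hP₂, ?_, h₂, ?_⟩
      · intro q hq hqd
        rcases (Nat.Prime.dvd_mul hq).mp hqd with h | h
        · exact hP₁ q hq h
        · have := (Nat.prime_dvd_prime_iff_eq hq hp).mp (hq.dvd_of_dvd_pow h)
          rw [this]; exact hpP
      · rw [smul_add, mul_comm, mul_smul, h₁, smul_zero, zero_add, mul_comm, mul_smul, hpw,
          smul_zero]
      · rw [htuw, hu12]; abel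
    · refine ⟨t₁, t₂ + w, n₁, n₂ * p ^ k, hn₁, Nat.mul_pos hn₂ hpk, hP₁, ?_, h₁, ?_, ?_⟩
      · intro q hq hqd
        rcases (Nat.Prime.dvd_mul hq).mp hqd with h | h
        · exact hP₂ q hq h
        · have := (Nat.prime_dvd_prime_iff_eq hq hp).mp (hq.dvd_of_dvd_pow h)
          rw [this]; exact hpP
      · rw [smul_add, mul_comm, mul_smul, h₂, smul_zero, zero_add, mul_comm, mul_smul, hpw,
          smul_zero]
      · rw [htuw, hu12]; abel


universe v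

theorem main16343 {A : Type u} {T : Type v} [AddCommGroup A] [AddCommGroup T] (P : Set ℕ)
    (hP : ∀ p ∈ P, p.Prime)
    (π : A →+ T) (hπ : Function.Surjective π) (hT : ∀ t : T, ∃ n : ℕ, 0 < n ∧ n • t = 0)
    (hD : ∀ ℓ ∈ P, ∀ x ∈ π.ker, ∃ y ∈ π.ker, ℓ • y = x)
    (TP T' : AddSubgroup T)
    (hTP : ∀ t, t ∈ TP ↔ ∃ n : ℕ, 0 < n ∧ (∀ p : ℕ, p.Prime → p ∣ n → p ∈ P) ∧ n • t = 0)
    (hT' : ∀ t, t ∈ T' ↔ ∃ n : ℕ, 0 < n ∧ (∀ p : ℕ, p.Prime → p ∣ n → p ∉ P) ∧ n • t = 0) :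
    (∀ ℓ ∈ P, ∀ x ∈ T'.comap π, ∃ y ∈ T'.comap π, ℓ • y = x) ∧
    ∃ s : TP →+ A, (∀ t : TP, π (s t) = (t : T)) ∧
      Function.Bijective (fun q : (T'.comap π) × TP => (q.1 : A) + s q.2) := by
  classical
  -- first claim
  have claim1 : ∀ ℓ ∈ P, ∀ x ∈ T'.comap π, ∃ y ∈ T'.comap π, ℓ • y = x := by
    intro ℓ hℓ x hx
    rw [AddSubgroup.mem_comap, hT'] at hx
    obtain ⟨n, hn, hPn, hnx⟩ := hx
    have hcop : Nat.Coprime n ℓ := by
      rw [Nat.coprime_comm, Nat.Prime.coprime_iff_not_dvd (hP ℓ hℓ)]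
      intro hd
      exact hPn ℓ (hP ℓ hℓ) hd hℓ
    obtain ⟨a, ha⟩ := exists_zsmul_of_coprime hcop (π x) hnx
    obtain ⟨y₀, hy₀⟩ := hπ (a • π x)
    have hker : x - ℓ • y₀ ∈ π.ker := by
      rw [AddMonoidHom.mem_ker, map_sub, map_nsmul, hy₀, ha, sub_self]
    obtain ⟨z, hz, hzx⟩ := hD ℓ hℓ _ hker
    refine ⟨y₀ + z, ?_, ?_⟩
    · rw [AddSubgroup.mem_comap, map_add, AddMonoidHom.mem_ker.mp hz, add_zero, hy₀]
      exact T'.zsmul_mem ((hT' _).mpr ⟨n, hn, hPn, hnx⟩) a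
    · rw [smul_add, hzx]; abel
  refine ⟨claim1, ?_⟩
  -- the P-torsion subgroup of A
  let AP : AddSubgroup A :=
    { carrier := {a | ∃ n : ℕ, 0 < n ∧ PNum P n ∧ n • a = 0}
      zero_mem' := ⟨1, one_pos, fun p hp h1 => absurd (Nat.dvd_one.mp h1) hp.ne_one, by simp⟩
      add_mem' := by
        rintro a b ⟨n, hn, hPn, hna⟩ ⟨m, hm, hPm, hmb⟩
        refine ⟨n * m, Nat.mul_pos hn hm, ?_, ?_⟩
        · intro p hp hd
          rcases (Nat.Prime.dvd_mul hp).mp hd with h | h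
          · exact hPn p hp h
          · exact hPm p hp h
        · rw [smul_add, mul_comm, mul_smul, hna, smul_zero, zero_add, mul_comm, mul_smul, hmb,
            smul_zero]
      neg_mem' := by
        rintro a ⟨n, hn, hPn, hna⟩
        exact ⟨n, hn, hPn, by rw [smul_neg, hna, neg_zero]⟩ }
  have hAP : ∀ a, a ∈ AP ↔ ∃ n : ℕ, 0 < n ∧ PNum P n ∧ n • a = 0 := fun a => Iff.rfl
  let KP : AddSubgroup A := π.ker ⊓ AP
  -- KP is divisible by every prime
  have hKPprime : ∀ q ∈ {q : ℕ | q.Prime}, ∀ x ∈ KP, ∃ y ∈ KP, q • y = x := by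
    intro q hq x hx
    have hq' : q.Prime := hq
    obtain ⟨hxK, n, hn, hPn, hnx⟩ := hx
    by_cases hqP : q ∈ P
    · obtain ⟨y, hy, hyx⟩ := hD q hqP x hxK
      refine ⟨y, ⟨hy, n * q, Nat.mul_pos hn hq'.pos, ?_, ?_⟩, hyx⟩
      · intro p hp hd
        rcases (Nat.Prime.dvd_mul hp).mp hd with h | h
        · exact hPn p hp h
        · rw [(Nat.prime_dvd_prime_iff_eq hp hq').mp h]; exact hqP
      · rw [mul_smul, hyx, hnx]
    · have hcop : Nat.Coprime n q := by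
        rw [Nat.coprime_comm, Nat.Prime.coprime_iff_not_dvd hq']
        intro hd
        exact hqP (hPn q hq' hd)
      obtain ⟨a, ha⟩ := exists_zsmul_of_coprime hcop x hnx
      exact ⟨a • x, KP.zsmul_mem ⟨hxK, n, hn, hPn, hnx⟩ a, ha⟩
  have hKPdiv : ∀ n : ℕ, 0 < n → ∀ x ∈ KP, ∃ y ∈ KP, n • y = x := fun n hn =>
    divisible_PNum {q : ℕ | q.Prime} KP hKPprime n hn (fun p hp _ => hp)
  letI : DivisibleBy ↥KP ℤ := divisibleByOfSMulRightSurj ↥KP ℤ (by
    intro z hz x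
    obtain ⟨y, hy, hyx⟩ := hKPdiv z.natAbs (Int.natAbs_pos.mpr hz) x.1 x.2
    rcases Int.natAbs_eq z with h | h
    · refine ⟨⟨y, hy⟩, Subtype.ext ?_⟩
      change z • y = x.1
      rw [h, natCast_zsmul]; exact hyx
    · refine ⟨⟨-y, KP.neg_mem hy⟩, Subtype.ext ?_⟩
      change z • (-y) = x.1
      rw [h, neg_smul, smul_neg, neg_neg, natCast_zsmul]; exact hyx)
  let incl : ↥KP →+ ↥AP := AddSubgroup.inclusion inf_le_right
  have hincl : Function.Injective incl := AddSubgroup.inclusion_injective _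
  obtain ⟨ρ, hρ⟩ := (Module.Baer.of_divisible ↥KP).extension_property_addMonoidHom incl hincl
    (AddMonoidHom.id _)
  have hρ' : ∀ x : ↥KP, ρ (incl x) = x := fun x => DFunLike.congr_fun hρ x
  -- σ a = a - ρ a
  let σ : ↥AP →+ A := AP.subtype - KP.subtype.comp ρ
  have hσ : ∀ a : ↥AP, σ a = (a : A) - (ρ a : A) := fun a => rfl
  have hπσ : ∀ a : ↥AP, π (σ a) = π a := by
    intro a
    rw [hσ, map_sub, AddMonoidHom.mem_ker.mp (ρ a).2.1, sub_zero]
  have hσeq : ∀ a a' : ↥AP, π a = π a' → σ a = σ a' := by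
    intro a a' h
    have hd : ((a - a' : ↥AP) : A) ∈ KP := by
      refine ⟨?_, (a - a').2⟩
      change ((a - a' : ↥AP) : A) ∈ π.ker
      rw [AddMonoidHom.mem_ker, AddSubgroup.coe_sub, map_sub, h, sub_self]
    have h1 : ρ (a - a') = ⟨_, hd⟩ := hρ' ⟨_, hd⟩
    have h2 : σ (a - a') = 0 := by
      rw [hσ, h1, sub_self]
    rw [map_sub, sub_eq_zero] at h2
    exact h2
  -- lifts
  have hlift : ∀ t : TP, ∃ a : ↥AP, π a = (t : T) := by
    intro t
    obtain ⟨n, hn, hPn, hnt⟩ := (hTP t.1).mp t.2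
    obtain ⟨a₀, ha₀⟩ := hπ t.1
    have hk : n • a₀ ∈ π.ker := by
      rw [AddMonoidHom.mem_ker, map_nsmul, ha₀, hnt]
    obtain ⟨k, hk', hkn⟩ := divisible_PNum P π.ker hD n hn hPn _ hk
    refine ⟨⟨a₀ - k, n, hn, hPn, ?_⟩, ?_⟩
    · rw [smul_sub, hkn, sub_self]
    · change π (a₀ - k) = _
      rw [map_sub, AddMonoidHom.mem_ker.mp hk', sub_zero, ha₀]
  choose l hl using hlift
  let s : TP →+ A := AddMonoidHom.mk' (fun t => σ (l t)) (by
    intro t t'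
    rw [← map_add]
    apply hσeq
    rw [hl, AddSubgroup.coe_add, AddSubgroup.coe_add, map_add, hl, hl])
  have hs : ∀ t : TP, π (s t) = (t : T) := fun t => by
    change π (σ (l t)) = _
    rw [hπσ, hl]
  refine ⟨s, hs, ?_, ?_⟩
  · -- injective
    rintro ⟨d, t⟩ ⟨d', t'⟩ h
    simp only at h
    have h1 : π d + (t : T) = π d' + (t' : T) := by
      have := congrArg π h
      rwa [map_add, map_add, hs, hs] at this
    have h2 : (t : T) - (t' : T) = π d' - π d := by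
      rw [sub_eq_sub_iff_add_eq_add, add_comm, h1, add_comm]
    have h3 : (t : T) - (t' : T) ∈ TP := TP.sub_mem t.2 t'.2
    have h4 : (t : T) - (t' : T) ∈ T' := by
      rw [h2]; exact T'.sub_mem d'.2 d.2
    obtain ⟨n, hn, hPn, hnt⟩ := (hTP _).mp h3
    obtain ⟨m, hm, hPm, hmt⟩ := (hT' _).mp h4
    have h5 : (t : T) - (t' : T) = 0 := eq_zero_of_coprime (coprime_of_PNum hPn hPm) _ hnt hmt
    have h6 : t = t' := Subtype.ext (sub_eq_zero.mp h5)
    subst h6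
    have h7 : (d : A) = d' := add_right_cancel h
    rw [Subtype.ext h7]
  · -- surjective
    intro a
    obtain ⟨N, hN, hNa⟩ := hT (π a)
    obtain ⟨t₁, t₂, n₁, n₂, hn₁, hn₂, hP₁, hP₂, h₁, h₂, h12⟩ := torsion_split P N hN (π a) hNa
    have ht₁ : t₁ ∈ TP := (hTP _).mpr ⟨n₁, hn₁, hP₁, h₁⟩
    have ht₂ : t₂ ∈ T' := (hT' _).mpr ⟨n₂, hn₂, hP₂, h₂⟩
    refine ⟨(⟨a - s ⟨t₁, ht₁⟩, ?_⟩, ⟨t₁, ht₁⟩), ?_⟩
    · rw [AddSubgroup.mem_comap, map_sub, hs, h12, add_sub_cancel_left]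
      exact ht₂
    · simp

end Groth.Agent.Lib.Helper5.KatoSplit
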